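import Cfsg.Agent.Lib.SporRecognition.Cert.Suz1782.PermBase

/-! Generated coset-enumeration certificate: Suz over <a, b, c, d, e, f>, 1782 cosets. -/

set_option autoImplicit false
set_option maxRecDepth 20000
set_option linter.all false
set_option Elab.async false

namespace CfsgLib.SporRecognition.Cert.Suz1782

open CfsgLib.SporRecognition.CosetCert

theorem relChk0 : allBelow 11 1782 (fixStep [T1, T1]) = true := by decide +kernel

theorem rel0 : ∀ u, u < 1782 → trace (wordTabs tabs [(.a, true), (.a, true)]) u = u :=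
  trace_of_fixStep (ts := [T1, T1]) relChk0

theorem relChk1_c0 : allPow 1782 (fixStep [T2, T1, T2, T1, T2, T1, T2, T1, T2, T1]) 10 0 = true := by decide +kernel
theorem relChk1_c1 : allPow 1782 (fixStep [T2, T1, T2, T1, T2, T1, T2, T1, T2, T1]) 10 1024 = true := by decide +kernel
theorem relChk1 : allBelow 11 1782 (fixStep [T2, T1, T2, T1, T2, T1, T2, T1, T2, T1]) = true :=
  allBelow_of_upto (hi := 2048)
    (Upto.trans (mid := 1024) ((Upto.of_pow relChk1_c0 (Nat.le_refl _)) : Upto _ _ 0 (0 + 2 ^ 10))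
    ((Upto.of_pow relChk1_c1 (Nat.le_refl _)) : Upto _ _ 1024 (1024 + 2 ^ 10)))
    (by decide) (by decide)

theorem rel1 : ∀ u, u < 1782 → trace (wordTabs tabs [(.a, true), (.b, true), (.a, true), (.b, true), (.a, true), (.b, true), (.a, true), (.b, true), (.a, true), (.b, true)]) u = u :=
  trace_of_fixStep (ts := [T2, T1, T2, T1, T2, T1, T2, T1, T2, T1]) relChk1

theorem relChk2 : allBelow 11 1782 (fixStep [T3, T1, T3, T1]) = true := by decide +kernel

theorem rel2 : ∀ u, u < 1782 → trace (wordTabs tabs [(.a, true), (.c, true), (.a, true), (.c, true)]) u = u :=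
  trace_of_fixStep (ts := [T3, T1, T3, T1]) relChk2

theorem relChk3 : allBelow 11 1782 (fixStep [T4, T1, T4, T1]) = true := by decide +kernel

theorem rel3 : ∀ u, u < 1782 → trace (wordTabs tabs [(.a, true), (.d, true), (.a, true), (.d, true)]) u = u :=
  trace_of_fixStep (ts := [T4, T1, T4, T1]) relChk3

theorem relChk4 : allBelow 11 1782 (fixStep [T5, T1, T5, T1]) = true := by decide +kernel

theorem rel4 : ∀ u, u < 1782 → trace (wordTabs tabs [(.a, true), (.e, true), (.a, true), (.e, true)]) u = u :=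
  trace_of_fixStep (ts := [T5, T1, T5, T1]) relChk4

theorem relChk5 : allBelow 11 1782 (fixStep [T6, T1, T6, T1]) = true := by decide +kernel

theorem rel5 : ∀ u, u < 1782 → trace (wordTabs tabs [(.a, true), (.f, true), (.a, true), (.f, true)]) u = u :=
  trace_of_fixStep (ts := [T6, T1, T6, T1]) relChk5

theorem relChk6 : allBelow 11 1782 (fixStep [T7, T1, T7, T1]) = true := by decide +kernel

theorem rel6 : ∀ u, u < 1782 → trace (wordTabs tabs [(.a, true), (.g, true), (.a, true), (.g, true)]) u = u :=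
  trace_of_fixStep (ts := [T7, T1, T7, T1]) relChk6

theorem relChk7 : allBelow 11 1782 (fixStep [T2, T2]) = true := by decide +kernel

theorem rel7 : ∀ u, u < 1782 → trace (wordTabs tabs [(.b, true), (.b, true)]) u = u :=
  trace_of_fixStep (ts := [T2, T2]) relChk7

theorem relChk8 : allBelow 11 1782 (fixStep [T3, T2, T3, T2, T3, T2]) = true := by decide +kernel

theorem rel8 : ∀ u, u < 1782 → trace (wordTabs tabs [(.b, true), (.c, true), (.b, true), (.c, true), (.b, true), (.c, true)]) u = u :=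
  trace_of_fixStep (ts := [T3, T2, T3, T2, T3, T2]) relChk8

theorem relChk9 : allBelow 11 1782 (fixStep [T4, T2, T4, T2]) = true := by decide +kernel

theorem rel9 : ∀ u, u < 1782 → trace (wordTabs tabs [(.b, true), (.d, true), (.b, true), (.d, true)]) u = u :=
  trace_of_fixStep (ts := [T4, T2, T4, T2]) relChk9

theorem relChk10 : allBelow 11 1782 (fixStep [T5, T2, T5, T2]) = true := by decide +kernel

theorem rel10 : ∀ u, u < 1782 → trace (wordTabs tabs [(.b, true), (.e, true), (.b, true), (.e, true)]) u = u :=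
  trace_of_fixStep (ts := [T5, T2, T5, T2]) relChk10

theorem relChk11 : allBelow 11 1782 (fixStep [T6, T2, T6, T2, T6, T2]) = true := by decide +kernel

theorem rel11 : ∀ u, u < 1782 → trace (wordTabs tabs [(.b, true), (.f, true), (.b, true), (.f, true), (.b, true), (.f, true)]) u = u :=
  trace_of_fixStep (ts := [T6, T2, T6, T2, T6, T2]) relChk11

theorem relChk12 : allBelow 11 1782 (fixStep [T7, T2, T7, T2, T7, T2]) = true := by decide +kernel

theorem rel12 : ∀ u, u < 1782 → trace (wordTabs tabs [(.b, true), (.g, true), (.b, true), (.g, true), (.b, true), (.g, true)]) u = u :=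
  trace_of_fixStep (ts := [T7, T2, T7, T2, T7, T2]) relChk12

theorem relChk13 : allBelow 11 1782 (fixStep [T3, T3]) = true := by decide +kernel

theorem rel13 : ∀ u, u < 1782 → trace (wordTabs tabs [(.c, true), (.c, true)]) u = u :=
  trace_of_fixStep (ts := [T3, T3]) relChk13

theorem relChk14_c0 : allPow 1782 (fixStep [T4, T3, T4, T3, T4, T3, T4, T3, T4, T3, T4, T3, T4, T3, T4, T3]) 9 0 = true := by decide +kernel
theorem relChk14_c1 : allPow 1782 (fixStep [T4, T3, T4, T3, T4, T3, T4, T3, T4, T3, T4, T3, T4, T3, T4, T3]) 9 512 = true := by decide +kernel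
theorem relChk14_c2 : allPow 1782 (fixStep [T4, T3, T4, T3, T4, T3, T4, T3, T4, T3, T4, T3, T4, T3, T4, T3]) 9 1024 = true := by decide +kernel
theorem relChk14_c3 : allPow 1782 (fixStep [T4, T3, T4, T3, T4, T3, T4, T3, T4, T3, T4, T3, T4, T3, T4, T3]) 9 1536 = true := by decide +kernel
theorem relChk14 : allBelow 11 1782 (fixStep [T4, T3, T4, T3, T4, T3, T4, T3, T4, T3, T4, T3, T4, T3, T4, T3]) = true :=
  allBelow_of_upto (hi := 2048)
    (Upto.trans (mid := 1024) (Upto.trans (mid := 512) ((Upto.of_pow relChk14_c0 (Nat.le_refl _)) : Upto _ _ 0 (0 + 2 ^ 9))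
    ((Upto.of_pow relChk14_c1 (Nat.le_refl _)) : Upto _ _ 512 (512 + 2 ^ 9)))
    (Upto.trans (mid := 1536) ((Upto.of_pow relChk14_c2 (Nat.le_refl _)) : Upto _ _ 1024 (1024 + 2 ^ 9))
    ((Upto.of_pow relChk14_c3 (Nat.le_refl _)) : Upto _ _ 1536 (1536 + 2 ^ 9))))
    (by decide) (by decide)

theorem rel14 : ∀ u, u < 1782 → trace (wordTabs tabs [(.c, true), (.d, true), (.c, true), (.d, true), (.c, true), (.d, true), (.c, true), (.d, true), (.c, true), (.d, true), (.c, true), (.d, true), (.c, true), (.d, true), (.c, true), (.d, true)]) u = u :=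
  trace_of_fixStep (ts := [T4, T3, T4, T3, T4, T3, T4, T3, T4, T3, T4, T3, T4, T3, T4, T3]) relChk14

theorem relChk15 : allBelow 11 1782 (fixStep [T5, T3, T5, T3]) = true := by decide +kernel

theorem rel15 : ∀ u, u < 1782 → trace (wordTabs tabs [(.c, true), (.e, true), (.c, true), (.e, true)]) u = u :=
  trace_of_fixStep (ts := [T5, T3, T5, T3]) relChk15

theorem relChk16 : allBelow 11 1782 (fixStep [T6, T3, T6, T3]) = true := by decide +kernel

theorem rel16 : ∀ u, u < 1782 → trace (wordTabs tabs [(.c, true), (.f, true), (.c, true), (.f, true)]) u = u :=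
  trace_of_fixStep (ts := [T6, T3, T6, T3]) relChk16

theorem relChk17 : allBelow 11 1782 (fixStep [T7, T3, T7, T3]) = true := by decide +kernel

theorem rel17 : ∀ u, u < 1782 → trace (wordTabs tabs [(.c, true), (.g, true), (.c, true), (.g, true)]) u = u :=
  trace_of_fixStep (ts := [T7, T3, T7, T3]) relChk17

theorem relChk18 : allBelow 11 1782 (fixStep [T4, T4]) = true := by decide +kernel

theorem rel18 : ∀ u, u < 1782 → trace (wordTabs tabs [(.d, true), (.d, true)]) u = u :=
  trace_of_fixStep (ts := [T4, T4]) relChk18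

theorem relChk19 : allBelow 11 1782 (fixStep [T5, T4, T5, T4, T5, T4]) = true := by decide +kernel

theorem rel19 : ∀ u, u < 1782 → trace (wordTabs tabs [(.d, true), (.e, true), (.d, true), (.e, true), (.d, true), (.e, true)]) u = u :=
  trace_of_fixStep (ts := [T5, T4, T5, T4, T5, T4]) relChk19

theorem relChk20 : allBelow 11 1782 (fixStep [T6, T4, T6, T4]) = true := by decide +kernel

theorem rel20 : ∀ u, u < 1782 → trace (wordTabs tabs [(.d, true), (.f, true), (.d, true), (.f, true)]) u = u :=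
  trace_of_fixStep (ts := [T6, T4, T6, T4]) relChk20

theorem relChk21 : allBelow 11 1782 (fixStep [T7, T4, T7, T4]) = true := by decide +kernel

theorem rel21 : ∀ u, u < 1782 → trace (wordTabs tabs [(.d, true), (.g, true), (.d, true), (.g, true)]) u = u :=
  trace_of_fixStep (ts := [T7, T4, T7, T4]) relChk21

theorem relChk22 : allBelow 11 1782 (fixStep [T5, T5]) = true := by decide +kernel

theorem rel22 : ∀ u, u < 1782 → trace (wordTabs tabs [(.e, true), (.e, true)]) u = u :=
  trace_of_fixStep (ts := [T5, T5]) relChk22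

theorem relChk23 : allBelow 11 1782 (fixStep [T6, T5, T6, T5]) = true := by decide +kernel

theorem rel23 : ∀ u, u < 1782 → trace (wordTabs tabs [(.e, true), (.f, true), (.e, true), (.f, true)]) u = u :=
  trace_of_fixStep (ts := [T6, T5, T6, T5]) relChk23

theorem relChk24 : allBelow 11 1782 (fixStep [T7, T5, T7, T5]) = true := by decide +kernel

theorem rel24 : ∀ u, u < 1782 → trace (wordTabs tabs [(.e, true), (.g, true), (.e, true), (.g, true)]) u = u :=
  trace_of_fixStep (ts := [T7, T5, T7, T5]) relChk24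

theorem relChk25 : allBelow 11 1782 (fixStep [T6, T6]) = true := by decide +kernel

theorem rel25 : ∀ u, u < 1782 → trace (wordTabs tabs [(.f, true), (.f, true)]) u = u :=
  trace_of_fixStep (ts := [T6, T6]) relChk25

theorem relChk26_c0 : allPow 1782 (fixStep [T7, T6, T7, T6, T7, T6, T7, T6]) 10 0 = true := by decide +kernel
theorem relChk26_c1 : allPow 1782 (fixStep [T7, T6, T7, T6, T7, T6, T7, T6]) 10 1024 = true := by decide +kernel
theorem relChk26 : allBelow 11 1782 (fixStep [T7, T6, T7, T6, T7, T6, T7, T6]) = true :=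
  allBelow_of_upto (hi := 2048)
    (Upto.trans (mid := 1024) ((Upto.of_pow relChk26_c0 (Nat.le_refl _)) : Upto _ _ 0 (0 + 2 ^ 10))
    ((Upto.of_pow relChk26_c1 (Nat.le_refl _)) : Upto _ _ 1024 (1024 + 2 ^ 10)))
    (by decide) (by decide)

theorem rel26 : ∀ u, u < 1782 → trace (wordTabs tabs [(.f, true), (.g, true), (.f, true), (.g, true), (.f, true), (.g, true), (.f, true), (.g, true)]) u = u :=
  trace_of_fixStep (ts := [T7, T6, T7, T6, T7, T6, T7, T6]) relChk26

theorem relChk27 : allBelow 11 1782 (fixStep [T7, T7]) = true := by decide +kernel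

theorem rel27 : ∀ u, u < 1782 → trace (wordTabs tabs [(.g, true), (.g, true)]) u = u :=
  trace_of_fixStep (ts := [T7, T7]) relChk27

theorem relChk28_c0 : allPow 1782 (fixStep [T3, T4, T3, T4, T3, T4, T3, T4, T1]) 10 0 = true := by decide +kernel
theorem relChk28_c1 : allPow 1782 (fixStep [T3, T4, T3, T4, T3, T4, T3, T4, T1]) 10 1024 = true := by decide +kernel
theorem relChk28 : allBelow 11 1782 (fixStep [T3, T4, T3, T4, T3, T4, T3, T4, T1]) = true :=
  allBelow_of_upto (hi := 2048)
    (Upto.trans (mid := 1024) ((Upto.of_pow relChk28_c0 (Nat.le_refl _)) : Upto _ _ 0 (0 + 2 ^ 10))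
    ((Upto.of_pow relChk28_c1 (Nat.le_refl _)) : Upto _ _ 1024 (1024 + 2 ^ 10)))
    (by decide) (by decide)

theorem rel28 : ∀ u, u < 1782 → trace (wordTabs tabs [(.a, true), (.d, false), (.c, false), (.d, false), (.c, false), (.d, false), (.c, false), (.d, false), (.c, false)]) u = u :=
  trace_of_fixStep (ts := [T3, T4, T3, T4, T3, T4, T3, T4, T1]) relChk28

theorem relChk29 : allBelow 11 1782 (fixStep [T6, T7, T6, T7, T1]) = true := by decide +kernel

theorem rel29 : ∀ u, u < 1782 → trace (wordTabs tabs [(.a, true), (.g, false), (.f, false), (.g, false), (.f, false)]) u = u :=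
  trace_of_fixStep (ts := [T6, T7, T6, T7, T1]) relChk29

def B30Lit : Nat := 0x37065ba63819e8659ca79628862ddcf7ca4bee5c8dad7116ebd893b5f151fa44a8a8bd03c898fa994d4a00ec239cdbc6b142526b6ce1b437258ac1b1761ed8cd8b8a735692bfd86b74619d0f5352bda7cf11a337627d8388f2e5d282d9c6d76a87518f37531cc839b622cc3ab71822fbc2895bbf5253073af4701b63877b5e7b208bd7b276458b8a5acb58615458f5eec4633e6a9a4749a3db3625342781ece17d5c5ad4c9a05c23ad141af0549b55a155b552b3582371ec3de5267732e17cfaaebd66b9c17e0f0595466fee565cc9dd54d906aa78d69b7ab9352cf5b2ba79892cddd1e51d413f1b71bd4e2e3d7c4f5bedb376fba0ca9a6f63c48a02a3d7babbd4af7767afb6f6d2d2e30e9252f739547cbda560655450f20e9c21a9910d272d4c999addb4de694ebc643c2a6f1abb0946596175b2f993a4ad1ac7d6346eb62bfdb865949167c1fd0385af3d46978cd18cb3d6df8e612be6cd0bd6cfddfc279eefbe73420ff615c7c8a73c17f5bed276de62679593b32a1b8745132e5cd0b93d5110f176ae3256e0688ac59bda9dff2f8b4ef44fe7b1a31954208655e64c55d38d0923fc01d5335efdb4eaddae171b03a9d8c2d4b3c966949ddaaa6aca8f6024dd2c955f9cb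fa7ede5accba83da8f6e6f1a5568ddd6f39c75b74faeb5368936d64b762b9534df45cc9060061e2ad3c6f81e23d0d6344d8d2f0e9f2ec80abd98638413b0391d64409bb4c8abb2f0a9e59ede3998b361e2658893b9924160565fafeb657e8ef98f56adf42a7aeeec51ae6b6cfc5e43bb01d6119287481f469466eb1eea54b656850b63556bc6ba0fd63a7d4bb26f4715cf0df565b942c986931cf700a6952ebe4e9a3ee140aa47bd138519d4345ac859d9f3a60e1d48556da8d6adedbb6876f69ede0f3d3bd99cace5e1e52c37f43621dc7b2f410943ce34f92326447ba2c214cb3e6feaa3436d8783692224f89f6d8ad0598a56e8495af4779924de50f34aab8ef37d7e3216685b69d2af8cc53a797170e6e8e6a99d312d8eda75cb5dc55ac12d1d623099bb568dbb5dacc1ee324269eebda2ecec0278694deccf533e77b71858ca52f60a234aeaf2caf62128f5e4428f043b57950b2487486a3e7f90da17b316475e2bec0464f646fceba756fa6abe0bc3a887074c7d69556e6e07299a711fdd981d9fa8298f444ce5ce617b6109b086a766afc3484898e91f5663771eefe4b857085180a0ca7c488f229bc678d2cb71becb2a589136582c95a112a2c36c2db60dc888f2fb71c4d9504d41f24f24ff3b1bd5d06e8ce9ede80c36c520c4e821e86371441944a497ceee8d6b75a0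59bc847bd92e99cfab04bbe4fa2a3af76a3bc18772589199510b9a8e8a1b880962e916b519b74ce2a10c191032b82f1d56d20f823785a5302684432e76d43230b5b2e60b65af718b1e614b1eee5adab2accbd675b2780359acd842a61796763f9562b2e9d7ef338675855d251270b84dd97b7363eec50ba866ab97149a901c30b8233304c8d4ccd9c98b8c9a4f312fdfd4fb9a5ed4563ecefb2abb7c86e531ea9e388ee148bf48af32646273769b65509aba1c715dcb9ea3d355e99aa7d7916d2c3975b4768947edb78aece2a017a86e88a6b2e6d99f43aebdd1bce64a952b4868a39272ca728c6ca6037545fde99e8f49db0bec80ecddfa90a18d329dc31706651863e03fb6f5591d0222f84e938198d3aec35d4bbc5c6652e26bf9f1472fc254c48bcc4f6bcec93a9853718d2a8d8335c9020d45b4a661b152474dedf0fa4b79b47c099e202d6bb5b9ca5689995c44aba0ec618be523ced5e9b1f2ba76c69aa867fe84918a2345b1a96e5429b8c84c4e1f667a5144b4171d7c6361293610771b539497ae4995cad04b52ede831f4f66e7b1666072d26596468c14d4c94412fe1d26979c82ba5c46d5014f4602fddc2c03024be4b6cfe572c661f2b565324ab4364584e75dd72751440a4172c6c69ab885890f96168e3b4b6896a2684568621c64bfea0b4815f7be62b4d3eeb55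2793f16a61d09a3daf6b926063323f85076662597009342d13b63eeb4b151f2702029a1da30fea5cb2a4efb156ac0d849615bc4e9d479707d0910675c9dbe34ca98861a64558ea9c149cd62ea6502762a27249628c37d4093c29dc7fb4abb91da684b546a7a78b96a7b91ca398bf284d372af124f9e4c9ae6b162673a866505d754089699da6ed1671ddebc051689b0e1f5502a2b274fdb08d7149968d4d6eadfc3370a6d89babf221399064f3a5089ee421442e64117d0a6c0c35244d623668cc43892e56cdb623c9a2e2cabaa782575e9f149c4d136f55b45aef26b794891f7e89297f0f924e5517e5887e63d4910f6e6e45225920639ee43e4645a5a4d94b867ff33229a5a7f89737296a3065087d7be81a424df687862430cf829205b220a8ec91445da28dc58d8ea0d1cabd873dac870534a5ad982b37660871492c4e11435108655f93322a68ab3fd672df5ae068a28e5020f33fe7df8bb3b88e7f599e3231a7ca680ec19f508758ce08033ce34613de2d8fd9fab1b3755f1d11ac3913ea97b912824795c0f8a66e42973c357a51d392d22784f4c21122c85d29e0d4bf8c2efaa94372f36f10d3a357cd28a568b4d6eb30c8562abc589651886931d9074948016b5b56d6a21bb1d10a66a1c31391a21cac4a601a1162459041fe138c10f5118e970895db76135cc545b5e5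712c959b50562afd9e48c3992716a65c6c442cbb65080439908b56bcd1a898365189779e912a6302dc46ac83ceba0ee622152c01a21fc552b08f2ab81f8f6205820502a81c26e0281e528580c455580523b245c9b07f3a63bd41943a801745c1bb2bcaf1eaa6d9fe98c3b3d456a2ccda8e81ec754449219367384429f92c65882cc23b41d0748813682c8cbb552680c1ae9fb19421c2394f6fc8e921a390b40b88109f0b86cc5c89745d1791b0e08a837851a1c2fb0a44a0ac2b429230a0e43256c240ad1e01862586324666c433042160e0c041c132374f890614e36c709ea3dc14018c0316ef1c978b674c31c2893a1346dcce9382609f8f199a092e7cef93e0b22ec81aa934c6bdb41260ea13cb025031a3d06b966126d481ba382481e8310361b4cd8ba97b0d41198f8fd0e037c358c5034c244d83c1aa4502b98a2002a8478695c02440e2ce0362ad5207752e458648791c4158e09271422a49a8584f6274178e42441552e8ea0c0528c182d03e2345400e4560a8c58a61040344f08a2120e48c0402be2700785e0de088208cb0ce130490342260ace50c606a480aa8bc0645b8690200326044806d0101b0850660421e01d0e30c85381d81204c09c0c14516805c340ba0843c40f1010be3f0218110961b8118041ac02c0a04a0180cc1f865050054048a50881141480a0580f80e83d0480140082500404c0380602c04001800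
noncomputable def B30 (u : Nat) : Nat := Nat.land (Nat.shiftRight B30Lit (Nat.mul 11 u)) 2047
theorem relChk30_c0 : allPow 1782 (relStep [T6, T3, T2, T1] B30 5) 10 0 = true := by decide +kernel
theorem relChk30_c1 : allPow 1782 (relStep [T6, T3, T2, T1] B30 5) 10 1024 = true := by decide +kernel
theorem relChk30 : allBelow 11 1782 (relStep [T6, T3, T2, T1] B30 5) = true :=
  allBelow_of_upto (hi := 2048)
    (Upto.trans (mid := 1024) ((Upto.of_pow relChk30_c0 (Nat.le_refl _)) : Upto _ _ 0 (0 + 2 ^ 10))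
    ((Upto.of_pow relChk30_c1 (Nat.le_refl _)) : Upto _ _ 1024 (1024 + 2 ^ 10)))
    (by decide) (by decide)

theorem rel30 : ∀ u, u < 1782 → trace (wordTabs tabs [(.a, true), (.b, true), (.c, true), (.f, true), (.a, true), (.b, true), (.c, true), (.f, true), (.a, true), (.b, true), (.c, true), (.f, true), (.a, true), (.b, true), (.c, true), (.f, true), (.a, true), (.b, true), (.c, true), (.f, true)]) u = u := by
  intro u hu
  exact trace_replicate_of_relStep (base := [T6, T3, T2, T1]) (m := 5)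
    (fun v hv => trace_lt tablesOK [(.a, true), (.b, true), (.c, true), (.f, true)] v hv) relChk30 u hu

theorem relChk31_c0 : allPow 1782 (fixStep [T7, T6, T2, T7, T6, T2, T7, T6, T2, T7, T6, T2, T7, T6, T2]) 9 0 = true := by decide +kernel
theorem relChk31_c1 : allPow 1782 (fixStep [T7, T6, T2, T7, T6, T2, T7, T6, T2, T7, T6, T2, T7, T6, T2]) 9 512 = true := by decide +kernel
theorem relChk31_c2 : allPow 1782 (fixStep [T7, T6, T2, T7, T6, T2, T7, T6, T2, T7, T6, T2, T7, T6, T2]) 9 1024 = true := by decide +kernel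
theorem relChk31_c3 : allPow 1782 (fixStep [T7, T6, T2, T7, T6, T2, T7, T6, T2, T7, T6, T2, T7, T6, T2]) 9 1536 = true := by decide +kernel
theorem relChk31 : allBelow 11 1782 (fixStep [T7, T6, T2, T7, T6, T2, T7, T6, T2, T7, T6, T2, T7, T6, T2]) = true :=
  allBelow_of_upto (hi := 2048)
    (Upto.trans (mid := 1024) (Upto.trans (mid := 512) ((Upto.of_pow relChk31_c0 (Nat.le_refl _)) : Upto _ _ 0 (0 + 2 ^ 9))
    ((Upto.of_pow relChk31_c1 (Nat.le_refl _)) : Upto _ _ 512 (512 + 2 ^ 9)))
    (Upto.trans (mid := 1536) ((Upto.of_pow relChk31_c2 (Nat.le_refl _)) : Upto _ _ 1024 (1024 + 2 ^ 9))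
    ((Upto.of_pow relChk31_c3 (Nat.le_refl _)) : Upto _ _ 1536 (1536 + 2 ^ 9))))
    (by decide) (by decide)

theorem rel31 : ∀ u, u < 1782 → trace (wordTabs tabs [(.b, true), (.f, true), (.g, true), (.b, true), (.f, true), (.g, true), (.b, true), (.f, true), (.g, true), (.b, true), (.f, true), (.g, true), (.b, true), (.f, true), (.g, true)]) u = u :=
  trace_of_fixStep (ts := [T7, T6, T2, T7, T6, T2, T7, T6, T2, T7, T6, T2, T7, T6, T2]) relChk31

def B32Lit : Nat := 0x37aaaf2070b378ef0ddfbbb76cf099991f12358d9dacb106239913ae64ee05067549c6dc151b68e9982dae0cec1d397054ee606c5c0db1f5b6c6c0b425a9cfedcfadf235ecbad64ac55e9ba3b96484c1d63493756e6d999ab38dd8849ae307e70c237aabf42adc9b12f0ec3ae14f69d6a4d47a8b50ea0d3e4865bcb6d37a6b4ce98845756e865da6f6fb67c8d99775d9fd6abc77964c48abd1886c3d81b0160a144a9bc1096bdd7c93329a0cdaec4b5caf5d898b387f13e169877cb494abc37b3632453b698de55610b9508f18e94d953b3306e34cb96b2ce5826c6d09c9b3ca6d48ce8c5c9f9383664cc9617b24856d73b409aa381fd90b75e40c7f8f80e5b79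d13cb7937f6b4911f0bde7b8f6d9c4d28b5161bec1c01c97760ec0d6b2895649dd5779987ebe958ea331ba674a906624c25c7ac1ce39998adc6c85cfd7725ef3d60b7124e494a78f7a468448c8f16b59ee8f8699bf04e95bdeb820eb7b5c39bb3657378f7da4f669468cd34b6aa8eb1db1447967d5359dc0f621019195cebbccca3a4738e50096fa2dadbaa2f6e26825a2231dfccc99feb2d8b9178773a56106d4d2bed3583d085711f79099b702491c06f7deec5179073ccd1ce4c6e1dcc3307348ddd3c5b9cf3952fce34bd69ad2da4b47688400b9695392ced9cb36deaccd98b2edb6b1d5f6eea06a2eafc3cea9ed3626418a6e4bd998f1ea0a41081b046b4d5c592caa022d059d22243b3390acd51848665f27196b2285322747427b2942f425cdbb6ca2b44817b120a41ca0ad7772eee83b116124ac1a836b6183302b6da26bac8fd212f31160e9776f12ac5c60f85e835f19b9b530e63a797b89fa65e50474aa16e856d78a01c053366782d530a5f4ba5ad2ca574a9c64e6994e1277c0e18875091120a3f47a8ed1c22662e8cd180ff45a8a8a4a2610820d100301fa8683ad187472fecb71764574181a0740a80d009fef987ecfc9f65527ccf89ef3d811031a7f501b33418bd17674d3ca7db4d30b814c0d65322466ae62555aaa552aa153aa654aa91b53695b4da02784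e034ab54b99832e654c3e41c00fd5f065cd0a4447d21abfc865a02364fe9f93ea7c4f6d50fc9062f6888bea764e6d75178af4dcd6d17672beacde546806625e19760a94b75232e0cacd51374e76d1b099fed52a995414c5649497f6a517c92d81ea7dbd63f74990c7c466b49f233ab90f5e4a31e590b64fb57a91d03343dbbae3abb3ad5dabd59e15d6cd595bcf9c1f0b15fd6dade3f054994df0d7f42a83d265354954c9332686c4d81af34a9a5d4ba42fc9d305b8032d6d5bf6366f912a24c480f08f25cc448868e9a5c405ae9b1a243c876d0a1ca539b73692cbe98a96c1b3cbd73693525e394431be373398e0b4d67c0a813022009e864e89dd5aca2643e0f6b2c2f4cad63336bc88af4155a827aeb6ad86bb5acf316979014dae35c5b8902ee14debe6d973db5c82e7c909a0f32338293ea6bdd6bda8614b6264d8425c4ac96effe326f1b2319d777c74a55f6e157aeb1573e57d0776add95ac4448c618a29e28c44bd079ef39e6a6b9e6e21c363c7fe4dcd916e294f09e0bc077e2c8843bc3481e5dcbb80e4ed8159fc0d21a1d88265ac5582ae34bf251173d8fc0550735c331621cc7717f300e79ceab4280fc9f83ef1a23d5ca8da726231c888607223a2fbe28c2c352730b614c25c2c60c713ab1d99970691518a433e0350e69cc396729292514a093c6091a2320b42a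076092741401e9386708e010f21c33038853374414508a010b99a94538b504405816b5fc8d4d71ad494924a98aa2925ccd49a848e5e4680d934c177766bc93783516418d156ff40e61ccb615623f33c177f04432be928e3bb3c567ab650c9f8d8880f3951befa9eb75ccb9701d89466b825416e157623081341f52de5c86c68bd0cf30e0db37956c9e48c218647cd1288a0a3ed42aa34dfb25ab18898d3897caf8094615a6af468b35dd738e6c133daacb05d6dadbb3038aad7d3a98ea8cc6d919ef598b1ca42252ecbc86794c1108a87ca299355d2e067ccfd9f63fdd964d8b2352cd8d079268d765aa8fcb410d6f38d6dd4b19669690a1949bfa4e6ee1582cac958ab03b56e7186773c2fd95bc0056b50e1bc363fa670ba0fc1aaa794ea9c536e367755958a3bcb00f02bea49488ab51e68c4c097516118d09fb07c7c46e28436fb4b614d82863361854ea962b0b22784ee770659e55762793889c28e5082d88461c85d0a8f74ce998d05aa6196a676dab4c488ca69312604bc9719031e1f43e0b50605b10316d40a4a8948ae1063b4761270cf67a26c4c89641d0591e23a634790f423622d1c983cf1b47295fbaf3aa716d5157851b5a601ba6ebcedc6db86c698c971b4fa7238acb43719cfa2dd1e78670c3bb37715e2b0b816e460dc3b4144c6227cd0c3490a5c20847add1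b93706dedb0adb646c6d858021060892222a1e5a27acf317545034cbbdf8bf533b3cb258fa8926b3163d8c522941568c61a70d78690902c6cb45a9bd0ec9d83ae7589f13c275a96314d9aa799d5fbe7b26ba4b2a012cc538e29c48633c5c53fe1c4384de86e4d4b9830955dbe6d8da92624848f17e73c5c505f88e71cc6a89f9df0ca3390b2182d45a4b3e5b33e45c8b11522913a2820c5dc834f70c017e4302695e2ba2f44b10b2144257d1632c42d84e984c88408809001ff9a296ebdd3afecf1e7a50d1a50e8f6b3ec74f53132e03c5b9b75974a39828775123a8748e85f9335a60e41c69612ba5439037c6f24c41cbc5088db5eac70a5a261ae35b1555664834a20a1c5ff2b51dd8e97f2bda8c2f693b789ed22277b64650c919031c635aca9155df63ea5750d4ad159256e26170903f595892e5478a2f05d8baaaa7796109328a811018eba65945515331682cd7dafd4007fc3d8e07ab469ea0ad41482472904153b628239f74029c530a5aa984d61d5862aa844fc4643e81de209b134265a7b4e42471ce4a7912a251af2955262484899225a4b047b019f42361eb177a67184559a7f4f0c43af38fcd0e5f58c5cb9576ebc6caf91441081a8efb7092b87dc37572521d3d4803d2b97f2788ae51b7ac1d43a2ed5d8561de8700de5877986dc873f55006b0d4fe2593fc72c1997b064528a59d08630c48f8d61ab0c06fcdf05f17cbc1ca05c884a7c2cc3f72e15e5743e85b942918520a2141f5d495816802604b582809df3a309011cff27a5201176d843a28f482003f68e9c81ea7051aa301e11c2500ee1d3920700dde88357200d0195965df6868bd0e05e0b9fbbba88e0b1753a276e0a8de044c9a0a013bb3764094d39b9c9408c10a6da6207e35e4803aeb40dc389ab3500caf702ea2814d12a2205143824a18049c7820b8e07b6b00f9e8035b700c76a0580abb00273d408810c7a02269d0f01602804e2b00e0180280400600800800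
noncomputable def B32 (u : Nat) : Nat := Nat.land (Nat.shiftRight B32Lit (Nat.mul 11 u)) 2047
theorem relChk32_c0 : allPow 1782 (relStep [T5, T4, T3, T4, T3, T2, T4, T3, T4, T3, T2, T4, T3, T4, T3, T2, T4, T3, T4, T3, T2, T4, T3, T4, T3, T2] B32 3) 9 0 = true := by decide +kernel
theorem relChk32_c1 : allPow 1782 (relStep [T5, T4, T3, T4, T3, T2, T4, T3, T4, T3, T2, T4, T3, T4, T3, T2, T4, T3, T4, T3, T2, T4, T3, T4, T3, T2] B32 3) 9 512 = true := by decide +kernel
theorem relChk32_c2 : allPow 1782 (relStep [T5, T4, T3, T4, T3, T2, T4, T3, T4, T3, T2, T4, T3, T4, T3, T2, T4, T3, T4, T3, T2, T4, T3, T4, T3, T2] B32 3) 9 1024 = true := by decide +kernel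
theorem relChk32_c3 : allPow 1782 (relStep [T5, T4, T3, T4, T3, T2, T4, T3, T4, T3, T2, T4, T3, T4, T3, T2, T4, T3, T4, T3, T2, T4, T3, T4, T3, T2] B32 3) 9 1536 = true := by decide +kernel
theorem relChk32 : allBelow 11 1782 (relStep [T5, T4, T3, T4, T3, T2, T4, T3, T4, T3, T2, T4, T3, T4, T3, T2, T4, T3, T4, T3, T2, T4, T3, T4, T3, T2] B32 3) = true :=
  allBelow_of_upto (hi := 2048)
    (Upto.trans (mid := 1024) (Upto.trans (mid := 512) ((Upto.of_pow relChk32_c0 (Nat.le_refl _)) : Upto _ _ 0 (0 + 2 ^ 9))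
    ((Upto.of_pow relChk32_c1 (Nat.le_refl _)) : Upto _ _ 512 (512 + 2 ^ 9)))
    (Upto.trans (mid := 1536) ((Upto.of_pow relChk32_c2 (Nat.le_refl _)) : Upto _ _ 1024 (1024 + 2 ^ 9))
    ((Upto.of_pow relChk32_c3 (Nat.le_refl _)) : Upto _ _ 1536 (1536 + 2 ^ 9))))
    (by decide) (by decide)

theorem rel32 : ∀ u, u < 1782 → trace (wordTabs tabs [(.b, true), (.c, true), (.d, true), (.c, true), (.d, true), (.b, true), (.c, true), (.d, true), (.c, true), (.d, true), (.b, true), (.c, true), (.d, true), (.c, true), (.d, true), (.b, true), (.c, true), (.d, true), (.c, true), (.d, true), (.b, true), (.c, true), (.d, true), (.c, true), (.d, true), (.e, true), (.b, true), (.c, true), (.d, true), (.c, true), (.d, true), (.b, true), (.c, true), (.d, true), (.c, true), (.d, true), (.b, true), (.c, true), (.d, true), (.c, true), (.d, true), (.b, true), (.c, true), (.d, true), (.c, true), (.d, true), (.b, true), (.c, true), (.d, true), (.c, true), (.d, true), (.e, true), (.b, true), (.c,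 true), (.d, true), (.c, true), (.d, true), (.b, true), (.c, true), (.d, true), (.c, true), (.d, true), (.b, true), (.c, true), (.d, true), (.c, true), (.d, true), (.b, true), (.c, true), (.d, true), (.c, true), (.d, true), (.b, true), (.c, true), (.d, true), (.c, true), (.d, true), (.e, true)]) u = u := by
  intro u hu
  exact trace_replicate_of_relStep (base := [T5, T4, T3, T4, T3, T2, T4, T3, T4, T3, T2, T4, T3, T4, T3, T2, T4, T3, T4, T3, T2, T4, T3, T4, T3, T2]) (m := 3)
    (fun v hv => trace_lt tablesOK [(.b, true), (.c, true), (.d, true), (.c, true), (.d, true), (.b, true), (.c, true), (.d, true), (.c, true), (.d, true), (.b, true), (.c, true), (.d, true), (.c, true), (.d, true), (.b, true), (.c, true), (.d, true), (.c, true), (.d, true), (.b, true), (.c, true), (.d, true), (.c, true), (.d, true), (.e, true)] v hv) relChk32 u hu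

end CfsgLib.SporRecognition.Cert.Suz1782
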